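import Cfsg.Agent.H54.AutTwentyTwo.Model
import Cfsg.Agent.H34.M22Block
import Cfsg.Agent.H94.M24.Class
import Cfsg.Agent.H34.M22Cert

/-!
Centralisers and normalisers of the elements of orders 5 and 7 in the automorphism group of the Mathieu
group on 22 points.
-/

set_option autoImplicit false
set_option Elab.async false

namespace Cfsg.Agent.H54.AutTwentyTwo

open Cfsg Cfsg.Agent.Golay Cfsg.Agent.H94.M24 Cfsg.Agent.H34.M22Cert
open scoped Pointwise

/-- The table preserves the pair. -/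
def pairB (t : ℕ) : Bool := (app t 23 == 0 || app t 23 == 23) && (app t 0 == 0 || app t 0 == 23)

/-- The table fixes both points of the pair. -/
def innB (t : ℕ) : Bool := app t 23 == 23 && app t 0 == 0

lemma pt_pair : pt 23 = none ∧ pt 0 = some 0 ∧ idx (none : GolayPt) = 23 ∧
    idx (some 0 : GolayPt) = 0 := by decide

lemma pt_eq {n : ℕ} (hn : n < 24) {p : GolayPt} : pt n = p ↔ n = idx p :=
  ⟨fun h => by rw [← h, idx_pt n hn], fun h => by rw [h, pt_idx]⟩

lemma pairB_iff {t : ℕ} (hv : validT t = true) (hM : mkPerm t ∈ M24) :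
    pairB t = true ↔ mkPerm t ∈ pairGrp := by
  obtain ⟨h23, h0, i23, i0⟩ := pt_pair
  have e1 : mkPerm t none = pt (app t 23) := by rw [← h23, mkPerm_pt hv (by norm_num)]
  have e2 : mkPerm t (some 0) = pt (app t 0) := by rw [← h0, mkPerm_pt hv (by norm_num)]
  have l1 : app t 23 < 24 := (validT_bijective hv).2 23 (by norm_num)
  have l2 : app t 0 < 24 := (validT_bijective hv).2 0 (by norm_num)
  simp only [pairB, Bool.and_eq_true, Bool.or_eq_true, beq_iff_eq]
  constructor
  · rintro ⟨a, b⟩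
    refine ⟨hM, smul_eq_of_image (fun p hp => ?_) le_rfl⟩
    simp only [Finset.mem_insert, Finset.mem_singleton] at hp ⊢
    rcases hp with rfl | rfl
    · rw [e1, pt_eq l1, pt_eq l1, i23, i0]; omega
    · rw [e2, pt_eq l2, pt_eq l2, i23, i0]; omega
  · intro h
    rcases pair_cases h with h' | ⟨h1, h2⟩
    · obtain ⟨-, h1, h2⟩ := S5599.mem_M22.1 h'
      rw [e1, pt_eq l1, i23] at h1
      rw [e2, pt_eq l2, i0] at h2
      omega
    · rw [e1, pt_eq l1, i0] at h1
      rw [e2, pt_eq l2, i23] at h2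
      omega

lemma innB_iff {t : ℕ} (hv : validT t = true) (hM : mkPerm t ∈ M24) :
    innB t = true ↔ mkPerm t ∈ Spor.M22 := by
  obtain ⟨h23, h0, i23, i0⟩ := pt_pair
  have e1 : mkPerm t none = pt (app t 23) := by rw [← h23, mkPerm_pt hv (by norm_num)]
  have e2 : mkPerm t (some 0) = pt (app t 0) := by rw [← h0, mkPerm_pt hv (by norm_num)]
  have l1 : app t 23 < 24 := (validT_bijective hv).2 23 (by norm_num)
  have l2 : app t 0 < 24 := (validT_bijective hv).2 0 (by norm_num)
  rw [S5599.mem_M22, e1, e2, pt_eq l1, pt_eq l2, i23, i0]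
  simp [innB, hM]

/-- An outer element commuting with the representative of order five. -/
def outFive : ℕ := 15637822318127135830205036210146999

/-- An outer element commuting with the representative of order seven. -/
def outSeven : ℕ := 24892481153451736533347280408906039

lemma five_facts :
    (inM24 eltFive && innB eltFive && tblEq (powT 5 eltFive) idTblVal &&
      !tblEq eltFive idTblVal) = true ∧
    (inM24 outFive && pairB outFive && !innB outFive &&
      tblEq (tblMul outFive eltFive) (tblMul eltFive outFive)) = true ∧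
    (inM24 conjFive && innB conjFive && tblEq (powT 4 conjFive) idTblVal &&
      tblEq (tblMul conjFive eltFive) (tblMul (powT 2 eltFive) conjFive)) = true := by
  decide +kernel

lemma seven_facts :
    (inM24 eltSeven && innB eltSeven && tblEq (powT 7 eltSeven) idTblVal &&
      !tblEq eltSeven idTblVal) = true ∧
    (inM24 outSeven && pairB outSeven && !innB outSeven &&
      tblEq (tblMul outSeven eltSeven) (tblMul eltSeven outSeven)) = true ∧
    (inM24 conjSeven && innB conjSeven &&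
      tblEq (tblMul conjSeven eltSeven) (tblMul (powT 2 eltSeven) conjSeven)) = true := by
  decide +kernel

/-- The pair stabiliser element of a table. -/
noncomputable def elt (t : ℕ) (h : mkPerm t ∈ pairGrp) : pairGrp := ⟨mkPerm t, h⟩

theorem orderOf_elt {X p : ℕ} [Fact p.Prime] (hX : validT X = true) (hm : mkPerm X ∈ pairGrp)
    (h1 : tblEq (powT p X) idTblVal = true) (h2 : tblEq X idTblVal = false) :
    orderOf (elt X hm) = p := by
  obtain ⟨hvp, hpp⟩ := powT_spec hX p
  refine orderOf_eq_prime (Subtype.ext ?_) fun h => ?_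
  · rw [SubmonoidClass.coe_pow, show ((elt X hm : pairGrp) : Equiv.Perm GolayPt) = mkPerm X from rfl,
      ← hpp]
    exact ((tblEq_iff hvp idTblVal_spec.1).1 h1).trans idTblVal_spec.2
  · have h' : mkPerm X = mkPerm idTblVal := (congrArg Subtype.val h).trans idTblVal_spec.2.symm
    rw [(tblEq_iff hX idTblVal_spec.1).2 h'] at h2
    exact absurd h2 (by simp)

lemma autIso_mem (σ : pairGrp) :
    autIso σ ∈ (MulAut.conj : ↥Spor.M22 →* MulAut ↥Spor.M22).range ↔
      (σ : Equiv.Perm GolayPt) ∈ Spor.M22 := by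
  have key : ∀ x : Spor.M22, autIso ⟨x.1, M22_le x.2⟩ = MulAut.conj x := fun x =>
    MulEquiv.ext fun y => Subtype.ext rfl
  constructor
  · rintro ⟨x, hx⟩
    rw [← key x] at hx
    rw [← autIso.injective hx]
    exact x.2
  · exact fun h => ⟨⟨σ.1, h⟩, (key _).symm⟩

/-- Elements of order `p` are conjugate to powers of a given one when `p` divides the order once. -/
theorem exists_conj {p : ℕ} [hp : Fact p.Prime] {Γ : Type*} [Group Γ] [Finite Γ]
    (hf : (Nat.card Γ).factorization p = 1) {r q : Γ} (hr : orderOf r = p) (hq : orderOf q = p) :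
    ∃ g : Γ, ∃ k : ℕ, q = g * r ^ k * g⁻¹ := by
  let S₀ : Sylow p Γ := Sylow.ofCard (Subgroup.zpowers r) (by rw [Nat.card_zpowers, hr, hf, pow_one])
  let S₁ : Sylow p Γ := Sylow.ofCard (Subgroup.zpowers q) (by rw [Nat.card_zpowers, hq, hf, pow_one])
  obtain ⟨g, hg⟩ := MulAction.exists_smul_eq Γ S₀ S₁
  have h1 : q ∈ (S₁ : Subgroup Γ) := Subgroup.mem_zpowers q
  rw [← hg, Sylow.coe_subgroup_smul] at h1
  obtain ⟨b, hb, e⟩ := h1
  obtain ⟨k, hk⟩ := (Submonoid.mem_powers_iff _ _).1
    ((mem_powers_iff_mem_zpowers (x := r)).2 hb)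
  exact ⟨g, k, by rw [hk]; exact e.symm⟩

lemma factorization_aut :
    (887040 : ℕ).factorization 5 = 1 ∧ (887040 : ℕ).factorization 7 = 1 := by
  constructor
  · rw [show (887040 : ℕ) = 5 ^ 1 * 177408 by norm_num,
      Nat.factorization_mul (by norm_num) (by norm_num), Nat.factorization_pow]
    simp [(show Nat.Prime 5 by norm_num).factorization, Nat.factorization_eq_zero_of_not_dvd]
  · rw [show (887040 : ℕ) = 7 ^ 1 * 126720 by norm_num,
      Nat.factorization_mul (by norm_num) (by norm_num), Nat.factorization_pow]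
    simp [(show Nat.Prime 7 by norm_num).factorization, Nat.factorization_eq_zero_of_not_dvd]

theorem innerRange_normal : ((MulAut.conj : ↥Spor.M22 →* MulAut ↥Spor.M22).range).Normal := by
  refine Subgroup.normal_of_index_eq_two ?_
  exact S2062.result

/-- Elements normalising a cyclic subgroup with distinct actions bound the centraliser by the
normaliser. -/
theorem card_cent_mul_le {Γ : Type*} [Group Γ] [Finite Γ] {ι : Type*} [Finite ι] {r : Γ} (g : ι → Γ)
    (hg : ∀ i, g i * r * (g i)⁻¹ ∈ Subgroup.zpowers r)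
    (hinj : ∀ i j, g i * r * (g i)⁻¹ = g j * r * (g j)⁻¹ → i = j) :
    Nat.card (Subgroup.centralizer ({r} : Set Γ)) * Nat.card ι ≤
      Nat.card (Subgroup.normalizer (Subgroup.zpowers r : Set Γ)) := by
  have hcomm : ∀ s : Subgroup.centralizer ({r} : Set Γ), ∀ y ∈ Subgroup.zpowers r,
      (s : Γ) * y * (s : Γ)⁻¹ = y := fun s y hy => by
    obtain ⟨k, rfl⟩ := Subgroup.mem_zpowers_iff.1 hy
    rw [((show Commute (s : Γ) r from Subgroup.mem_centralizer_singleton_iff.1 s.2).zpow_right k).eq,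
      mul_inv_cancel_right]
  have hmem : ∀ h : Γ, h * r * h⁻¹ ∈ Subgroup.zpowers r →
      h ∈ Subgroup.normalizer (Subgroup.zpowers r : Set Γ) := fun h hh => by
    have hle : (Subgroup.zpowers r).map (MulAut.conj h).toMonoidHom = Subgroup.zpowers r := by
      refine Subgroup.eq_of_le_of_card_ge ?_
        (by rw [Subgroup.card_map_of_injective (MulAut.conj h).injective])
      rintro _ ⟨y, hy, rfl⟩
      obtain ⟨k, rfl⟩ := Subgroup.mem_zpowers_iff.1 hy
      show h * r ^ k * h⁻¹ ∈ _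
      rw [← conj_zpow]
      exact Subgroup.zpow_mem _ hh k
    refine Subgroup.mem_normalizer_iff.2 fun a => ?_
    constructor
    · intro ha
      show h * a * h⁻¹ ∈ Subgroup.zpowers r
      rw [← hle]
      exact ⟨a, ha, rfl⟩
    · intro ha
      have ha' : h * a * h⁻¹ ∈ Subgroup.zpowers r := ha
      rw [← hle] at ha'
      obtain ⟨b, hb, e⟩ := ha'
      have : b = a := mul_left_cancel (mul_right_cancel (e : h * b * h⁻¹ = h * a * h⁻¹))
      exact this ▸ hb
  rw [← Nat.card_prod]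
  refine Nat.card_le_card_of_injective
    (fun t : Subgroup.centralizer ({r} : Set Γ) × ι =>
      (⟨(t.1 : Γ) * g t.2, hmem _ (by
        rw [show (t.1 : Γ) * g t.2 * r * ((t.1 : Γ) * g t.2)⁻¹ =
          t.1 * (g t.2 * r * (g t.2)⁻¹) * (t.1 : Γ)⁻¹ by group, hcomm t.1 _ (hg t.2)]
        exact hg t.2)⟩ : Subgroup.normalizer (Subgroup.zpowers r : Set Γ))) ?_
  rintro ⟨s, i⟩ ⟨s', j⟩ e
  have e' : (s : Γ) * g i = s' * g j := congrArg Subtype.val e
  have hij : i = j := hinj i j (by
    rw [← hcomm s _ (hg i), ← hcomm s' _ (hg j)]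
    calc (s : Γ) * (g i * r * (g i)⁻¹) * (s : Γ)⁻¹ = (s : Γ) * g i * r * ((s : Γ) * g i)⁻¹ := by group
      _ = (s' : Γ) * g j * r * ((s' : Γ) * g j)⁻¹ := by rw [e']
      _ = _ := by group)
  subst hij
  exact Prod.ext (Subtype.ext (mul_right_cancel e')) rfl

/-- A subgroup meeting a normal subgroup of index two has at most twice its order. -/
theorem card_le_two {Γ : Type*} [Group Γ] [Finite Γ] (H S : Subgroup Γ) (hi : H.index = 2) :
    Nat.card S ≤ 2 * Nat.card ↥(H ⊓ S) := by
  haveI := Subgroup.normal_of_index_eq_two hi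
  have h1 := (H.subgroupOf S).card_mul_index
  have h2 : (H.subgroupOf S).index ≤ 2 := by
    rw [← hi]
    exact Nat.le_of_dvd (by rw [hi]; norm_num) (Subgroup.relIndex_dvd_index_of_normal H S)
  rw [← Subgroup.inf_subgroupOf_right, Nat.card_congr (Subgroup.subgroupOfEquivOfLe
    (inf_le_right : H ⊓ S ≤ S)).toEquiv, Subgroup.inf_subgroupOf_right] at h1
  rw [← h1, mul_comm 2]
  exact Nat.mul_le_mul_left _ h2

/-- The inner part of the pair stabiliser. -/
noncomputable def innP : Subgroup pairGrp := Spor.M22.subgroupOf pairGrp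

lemma innP_index : innP.index = 2 := relIndex_eq

lemma mem_pairGrp {t : ℕ} (h : inM24 t = true) (hp : pairB t = true) : mkPerm t ∈ pairGrp :=
  (pairB_iff (validT_of_inM24 h) (mem_M24_of_inM24 h)).1 hp

lemma mem_M22 {t : ℕ} (h : inM24 t = true) (hp : innB t = true) : mkPerm t ∈ Spor.M22 :=
  (innB_iff (validT_of_inM24 h) (mem_M24_of_inM24 h)).1 hp

lemma tbl_conj {a b d : ℕ} (ha : validT a = true) (hb : validT b = true) (hd : validT d = true)
    (h : tblEq (tblMul a b) (tblMul d a) = true) : mkPerm a * mkPerm b = mkPerm d * mkPerm a := by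
  rw [← (tblMul_spec ha hb).2, ← (tblMul_spec hd ha).2]
  exact (tblEq_iff (tblMul_spec ha hb).1 (tblMul_spec hd ha).1).1 h

/-- Facts at a representative `r` of prime order `p` with a bound `B` on its normaliser in `M22`. -/
theorem rep_facts {X Y Z p B : ℕ} [hp : Fact p.Prime]
    (hX : (inM24 X && innB X && tblEq (powT p X) idTblVal && !tblEq X idTblVal) = true)
    (hY : (inM24 Y && pairB Y && !innB Y && tblEq (tblMul Y X) (tblMul X Y)) = true)
    (hZ : (inM24 Z && innB Z && tblEq (tblMul Z X) (tblMul (powT 2 X) Z)) = true)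
    (hB : ∀ u : Spor.M22, (u : Equiv.Perm GolayPt) = mkPerm X → orderOf u = p →
      Nat.card (Subgroup.normalizer (Subgroup.zpowers u : Set Spor.M22)) ≤ B) :
    ∃ r u y : pairGrp, r ∈ innP ∧ orderOf r = p ∧ u ∉ innP ∧ u * r = r * u ∧
      (y : Equiv.Perm GolayPt) = mkPerm Z ∧ y ∈ innP ∧ y * r * y⁻¹ = r ^ 2 ∧
      Nat.card (Subgroup.normalizer (Subgroup.zpowers r : Set pairGrp)) ≤ 2 * B ∧
      Nat.card ↥(innP ⊓ Subgroup.normalizer (Subgroup.zpowers r : Set pairGrp)) ≤ B := by
  haveI : Finite pairGrp := Nat.finite_of_card_ne_zero (by rw [card_pairGrp]; norm_num)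
  simp only [Bool.and_eq_true, Bool.not_eq_true'] at hX hY hZ
  obtain ⟨⟨⟨hX1, hX2⟩, hX3⟩, hX4⟩ := hX
  obtain ⟨⟨⟨hY1, hY2⟩, hY3⟩, hY4⟩ := hY
  obtain ⟨⟨hZ1, hZ2⟩, hZ4⟩ := hZ
  have hv := validT_of_inM24 hX1
  set r : pairGrp := elt X (M22_le (mem_M22 hX1 hX2)) with hrdef
  set u : pairGrp := elt Y (mem_pairGrp hY1 hY2)
  set y : pairGrp := elt Z (M22_le (mem_M22 hZ1 hZ2))
  have hr : orderOf r = p := orderOf_elt hv _ hX3 hX4
  have hrM : r ∈ innP := mem_M22 hX1 hX2
  have hu : u ∉ innP := fun h => by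
    have h' := (innB_iff (validT_of_inM24 hY1) (mem_M24_of_inM24 hY1)).2 h
    rw [h'] at hY3
    exact absurd hY3 (by simp)
  have hinner : Nat.card ↥(innP ⊓ Subgroup.normalizer (Subgroup.zpowers r : Set pairGrp)) ≤ B := by
    refine le_trans ?_ (hB ⟨mkPerm X, mem_M22 hX1 hX2⟩ rfl (by
      rw [← Subgroup.orderOf_coe]
      show orderOf (mkPerm X) = p
      rw [← hr, ← Subgroup.orderOf_coe r]
      rfl))
    refine Nat.card_le_card_of_injective
      (fun a => (⟨⟨(a : pairGrp), a.2.1⟩, ?_⟩ : Subgroup.normalizer _)) fun a b e => ?_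
    · have hmap : ∀ x : Spor.M22, (⟨x.1, M22_le x.2⟩ : pairGrp) ∈ Subgroup.zpowers r ↔
          x ∈ Subgroup.zpowers (⟨mkPerm X, mem_M22 hX1 hX2⟩ : Spor.M22) := by
        intro x
        simp only [Subgroup.mem_zpowers_iff]
        refine exists_congr fun k => ⟨fun h => Subtype.ext ?_, fun h => Subtype.ext ?_⟩
        · have h' := congrArg Subtype.val h; simpa [SubgroupClass.coe_zpow, hrdef, elt] using h'
        · have h' := congrArg Subtype.val h; simpa [SubgroupClass.coe_zpow, hrdef, elt] using h'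
      refine Subgroup.mem_normalizer_iff.2 fun x => ?_
      show x ∈ Subgroup.zpowers (⟨mkPerm X, mem_M22 hX1 hX2⟩ : Spor.M22) ↔ _ ∈
        Subgroup.zpowers (⟨mkPerm X, mem_M22 hX1 hX2⟩ : Spor.M22)
      rw [← hmap, ← hmap]
      exact Subgroup.mem_normalizer_iff.1 a.2.2 _
    · exact Subtype.ext (Subtype.ext (congrArg (fun z => ((z : Spor.M22) : Equiv.Perm GolayPt))
        (congrArg Subtype.val e :) :))
  refine ⟨r, u, y, hrM, hr, hu, Subtype.ext (tbl_conj (validT_of_inM24 hY1) hv hv hY4), rfl,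
    mem_M22 hZ1 hZ2, ?_, (card_le_two _ _ innP_index).trans (Nat.mul_le_mul_left 2 hinner), hinner⟩
  rw [mul_inv_eq_iff_eq_mul]
  refine Subtype.ext ?_
  obtain ⟨hv2, hp2⟩ := powT_spec hv 2
  have := tbl_conj (validT_of_inM24 hZ1) hv hv2 hZ4
  rw [hp2] at this
  exact this

/-- Transport from a representative to an arbitrary element of the same order. -/
theorem transport {p : ℕ} [Fact p.Prime] (hf : (887040 : ℕ).factorization p = 1)
    {r : pairGrp} (hr : orderOf r = p) {a : MulAut ↥Spor.M22} (ha : orderOf a = p) :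
    ∃ φ : pairGrp ≃* MulAut ↥Spor.M22, ∃ k : ℕ, φ (r ^ k) = a ∧ (∃ l, (r ^ k) ^ l = r) ∧
      ∀ σ : pairGrp, φ σ ∈ (MulAut.conj : ↥Spor.M22 →* MulAut ↥Spor.M22).range ↔ σ ∈ innP := by
  haveI : Finite pairGrp := Nat.finite_of_card_ne_zero (by rw [card_pairGrp]; norm_num)
  have hq : orderOf (autIso.symm a) = p := by rw [MulEquiv.orderOf_eq]; exact ha
  obtain ⟨g, k, hk⟩ := exists_conj (by rw [card_pairGrp]; exact hf) hr hq
  have hcop : Nat.Coprime k (orderOf r) := by
    rw [hr, Nat.coprime_comm]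
    refine (Nat.Prime.coprime_iff_not_dvd Fact.out).2 fun hdvd => ?_
    have h0 : r ^ k = 1 := orderOf_dvd_iff_pow_eq_one.1 (hr ▸ hdvd)
    rw [hk, h0, mul_one, mul_inv_cancel, orderOf_one] at hq
    exact (Fact.out : p.Prime).ne_one hq.symm
  refine ⟨(MulAut.conj g : pairGrp ≃* pairGrp).trans autIso, k, ?_,
    exists_pow_eq_self_of_coprime hcop, fun σ => ?_⟩
  · show autIso (g * r ^ k * g⁻¹) = a
    rw [← hk, MulEquiv.apply_symm_apply]
  · show autIso (g * σ * g⁻¹) ∈ _ ↔ _
    rw [autIso_mem]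
    show g * σ * g⁻¹ ∈ innP ↔ σ ∈ innP
    refine ⟨fun h => ?_, fun h => M22_normal.conj_mem σ h g⟩
    have h2 : g⁻¹ * (g * σ * g⁻¹) * g⁻¹⁻¹ ∈ innP := M22_normal.conj_mem _ h g⁻¹
    rwa [show g⁻¹ * (g * σ * g⁻¹) * g⁻¹⁻¹ = σ by group] at h2

theorem pow_conj_pow {Γ : Type*} [Group Γ] {r y : Γ} (h : y * r * y⁻¹ = r ^ 2) :
    ∀ i : ℕ, y ^ i * r * (y ^ i)⁻¹ = r ^ (2 ^ i)
  | 0 => by simp
  | i + 1 => by
    rw [pow_succ', show y * y ^ i * r * (y * y ^ i)⁻¹ = y * (y ^ i * r * (y ^ i)⁻¹) * y⁻¹ by group,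
      pow_conj_pow h i, ← conj_pow, h, ← pow_mul, ← pow_succ']

theorem pow_inj_of_mod {Γ : Type*} [Group Γ] {r : Γ} {p : ℕ} (hr : orderOf r = p) {ι : Type*}
    (e : ι → ℕ) (he : ∀ i j, e i % p = e j % p → i = j) (i j : ι) (h : r ^ e i = r ^ e j) : i = j :=
  he i j (hr ▸ (pow_inj_mod.1 h))

/-- Centralisers of elements of order five. -/
theorem five_aut {a : MulAut ↥Spor.M22} (ha : orderOf a = 5) :
    Nat.card (Subgroup.centralizer ({a} : Set (MulAut ↥Spor.M22))) = 10 ∧
    (∃ u, u ∉ (MulAut.conj : ↥Spor.M22 →* MulAut ↥Spor.M22).range ∧ u * a = a * u) ∧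
    ∃ y ∈ (MulAut.conj : ↥Spor.M22 →* MulAut ↥Spor.M22).range,
      y ^ 4 = 1 ∧ y * a * y⁻¹ = a ^ 2 := by
  haveI : Fact (Nat.Prime 5) := ⟨by norm_num⟩
  haveI : Finite pairGrp := Nat.finite_of_card_ne_zero (by rw [card_pairGrp]; norm_num)
  obtain ⟨h1, h2, h3⟩ := five_facts
  have hy4 : tblEq (powT 4 conjFive) idTblVal = true := by
    simp only [Bool.and_eq_true] at h3; exact h3.1.2
  obtain ⟨r, u, y, hrM, hr, hu, hur, hyv, hyM, hyr, hN, hNi⟩ := rep_facts (p := 5) (B := 20) h1 h2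
    (by simp only [Bool.and_eq_true] at h3 ⊢; exact ⟨h3.1.1, h3.2⟩)
    (fun w hw ho => H34.TwistCount.card_normalizer_le certFive.1 (le_of_eq spor_M22_eq) hw ho)
  have hC : Nat.card (Subgroup.centralizer ({r} : Set pairGrp)) = 10 := by
    have hle := card_cent_mul_le (r := r) (fun i : Fin 4 => y ^ (i : ℕ))
      (fun i => by rw [pow_conj_pow hyr]; exact Subgroup.pow_mem _ (Subgroup.mem_zpowers r) _)
      (fun i j h => pow_inj_of_mod hr (fun i : Fin 4 => 2 ^ (i : ℕ)) (by decide) i j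
        (by rwa [pow_conj_pow hyr, pow_conj_pow hyr] at h))
    rw [Nat.card_eq_fintype_card (α := Fin 4), Fintype.card_fin] at hle
    have h5 : 5 ∣ Nat.card ↥(innP ⊓ Subgroup.centralizer ({r} : Set pairGrp)) :=
      hr ▸ Subgroup.orderOf_dvd_natCard _ ⟨hrM, Subgroup.mem_centralizer_singleton_iff.2 rfl⟩
    set K := innP ⊓ Subgroup.centralizer ({r} : Set pairGrp) with hK
    have hKC : K ≤ Subgroup.centralizer ({r} : Set pairGrp) := inf_le_right
    have hne : K ≠ Subgroup.centralizer ({r} : Set pairGrp) := fun e =>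
      hu ((e.ge : Subgroup.centralizer ({r} : Set pairGrp) ≤ K)
        (Subgroup.mem_centralizer_singleton_iff.2 hur)).1
    obtain ⟨m, hm⟩ := Subgroup.card_dvd_of_le hKC
    have hm2 : 2 ≤ m := by
      rcases m with - | - | m
      · have := Nat.card_pos (α := Subgroup.centralizer ({r} : Set pairGrp)); omega
      · exact absurd (Subgroup.eq_of_le_of_card_ge hKC (by rw [hm, zero_add, mul_one])) hne
      · omega
    have hK5 : 5 ≤ Nat.card K := Nat.le_of_dvd Nat.card_pos h5
    have : 10 ≤ Nat.card (Subgroup.centralizer ({r} : Set pairGrp)) := by rw [hm]; nlinarith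
    omega
  obtain ⟨φ, k, hφ, ⟨l, hl⟩, hinn⟩ := transport factorization_aut.1 hr ha
  refine ⟨?_, ⟨φ u, fun h => hu ((hinn u).1 h), ?_⟩, φ y, (hinn y).2 hyM, ?_, ?_⟩
  · rw [← hC]
    refine (Nat.card_eq_of_bijective
      (fun s : Subgroup.centralizer ({r} : Set pairGrp) => (⟨φ s, ?_⟩ :
        Subgroup.centralizer ({a} : Set (MulAut ↥Spor.M22)))) ⟨?_, ?_⟩).symm
    · rw [Subgroup.mem_centralizer_singleton_iff, ← hφ, ← map_mul, ← map_mul,
        ((show Commute (s : pairGrp) r from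
          Subgroup.mem_centralizer_singleton_iff.1 s.2).pow_right k).eq]
    · exact fun s s' e => Subtype.ext (φ.injective (congrArg Subtype.val e :))
    · intro b
      obtain ⟨s, hs⟩ := φ.surjective b
      have hb := Subgroup.mem_centralizer_singleton_iff.1 b.2
      rw [← hs, ← hφ, ← map_mul, ← map_mul] at hb
      refine ⟨⟨s, Subgroup.mem_centralizer_singleton_iff.2 ?_⟩, Subtype.ext hs⟩
      rw [← hl]
      exact ((show Commute s (r ^ k) from φ.injective hb).pow_right l).eq
  · rw [← hφ, ← map_mul, ← map_mul, ((show Commute u r from hur).pow_right k).eq]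
  · rw [← map_pow, show y ^ 4 = 1 from Subtype.ext (by
      rw [SubmonoidClass.coe_pow, hyv]
      have hv : validT conjFive = true := by
        simp only [Bool.and_eq_true] at h3; exact validT_of_inM24 h3.1.1.1
      obtain ⟨hv4, hp4⟩ := powT_spec hv 4
      rw [← hp4, (tblEq_iff hv4 idTblVal_spec.1).1 hy4, idTblVal_spec.2]; rfl), map_one]
  · rw [← hφ, ← map_inv, ← map_mul, ← map_mul, ← conj_pow, hyr, ← map_pow, ← pow_mul, ← pow_mul,
      mul_comm]

/-- Centralisers of elements of order seven. -/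
theorem seven_aut {a : MulAut ↥Spor.M22} (ha : orderOf a = 7) :
    Nat.card (Subgroup.centralizer ({a} : Set (MulAut ↥Spor.M22))) = 14 ∧
    (∃ u, u ∉ (MulAut.conj : ↥Spor.M22 →* MulAut ↥Spor.M22).range ∧ u * a = a * u) ∧
    (∃ y ∈ (MulAut.conj : ↥Spor.M22 →* MulAut ↥Spor.M22).range, y * a * y⁻¹ = a ^ 2) ∧
    ∀ b : MulAut ↥Spor.M22, b * a * b⁻¹ ≠ a⁻¹ := by
  haveI : Fact (Nat.Prime 7) := ⟨by norm_num⟩
  haveI : Finite pairGrp := Nat.finite_of_card_ne_zero (by rw [card_pairGrp]; norm_num)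
  obtain ⟨h1, h2, h3⟩ := seven_facts
  obtain ⟨r, u, y, hrM, hr, hu, hur, hyv, hyM, hyr, hN, hNi⟩ := rep_facts (p := 7) (B := 21) h1 h2 h3
    (fun w hw ho => H34.TwistCount.card_normalizer_le certSeven.1 (le_of_eq spor_M22_eq) hw ho)
  have hC14 : 14 ≤ Nat.card (Subgroup.centralizer ({r} : Set pairGrp)) := by
    have h7 : 7 ∣ Nat.card ↥(innP ⊓ Subgroup.centralizer ({r} : Set pairGrp)) :=
      hr ▸ Subgroup.orderOf_dvd_natCard _ ⟨hrM, Subgroup.mem_centralizer_singleton_iff.2 rfl⟩
    set K := innP ⊓ Subgroup.centralizer ({r} : Set pairGrp) with hK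
    have hKC : K ≤ Subgroup.centralizer ({r} : Set pairGrp) := inf_le_right
    have hne : K ≠ Subgroup.centralizer ({r} : Set pairGrp) := fun e =>
      hu ((e.ge : Subgroup.centralizer ({r} : Set pairGrp) ≤ K)
        (Subgroup.mem_centralizer_singleton_iff.2 hur)).1
    obtain ⟨m, hm⟩ := Subgroup.card_dvd_of_le hKC
    have hm2 : 2 ≤ m := by
      rcases m with - | - | m
      · have := Nat.card_pos (α := Subgroup.centralizer ({r} : Set pairGrp)); omega
      · exact absurd (Subgroup.eq_of_le_of_card_ge hKC (by rw [hm, zero_add, mul_one])) hne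
      · omega
    have hK7 : 7 ≤ Nat.card K := Nat.le_of_dvd Nat.card_pos h7
    rw [hm]; nlinarith
  have hC : Nat.card (Subgroup.centralizer ({r} : Set pairGrp)) = 14 := by
    have hle := card_cent_mul_le (r := r) (fun i : Fin 3 => y ^ (i : ℕ))
      (fun i => by rw [pow_conj_pow hyr]; exact Subgroup.pow_mem _ (Subgroup.mem_zpowers r) _)
      (fun i j h => pow_inj_of_mod hr (fun i : Fin 3 => 2 ^ (i : ℕ)) (by decide) i j
        (by rwa [pow_conj_pow hyr, pow_conj_pow hyr] at h))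
    rw [Nat.card_eq_fintype_card (α := Fin 3), Fintype.card_fin] at hle
    omega
  obtain ⟨φ, k, hφ, ⟨l, hl⟩, hinn⟩ := transport factorization_aut.2 hr ha
  refine ⟨?_, ⟨φ u, fun h => hu ((hinn u).1 h), ?_⟩, ⟨φ y, (hinn y).2 hyM, ?_⟩, fun b hb => ?_⟩
  · rw [← hC]
    refine (Nat.card_eq_of_bijective
      (fun s : Subgroup.centralizer ({r} : Set pairGrp) => (⟨φ s, ?_⟩ :
        Subgroup.centralizer ({a} : Set (MulAut ↥Spor.M22)))) ⟨?_, ?_⟩).symm
    · rw [Subgroup.mem_centralizer_singleton_iff, ← hφ, ← map_mul, ← map_mul,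
        ((show Commute (s : pairGrp) r from
          Subgroup.mem_centralizer_singleton_iff.1 s.2).pow_right k).eq]
    · exact fun s s' e => Subtype.ext (φ.injective (congrArg Subtype.val e :))
    · intro b
      obtain ⟨s, hs⟩ := φ.surjective b
      have hb := Subgroup.mem_centralizer_singleton_iff.1 b.2
      rw [← hs, ← hφ, ← map_mul, ← map_mul] at hb
      refine ⟨⟨s, Subgroup.mem_centralizer_singleton_iff.2 ?_⟩, Subtype.ext hs⟩
      rw [← hl]
      exact ((show Commute s (r ^ k) from φ.injective hb).pow_right l).eq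
  · rw [← hφ, ← map_mul, ← map_mul, ((show Commute u r from hur).pow_right k).eq]
  · rw [← hφ, ← map_inv, ← map_mul, ← map_mul, ← conj_pow, hyr, ← map_pow, ← pow_mul, ← pow_mul,
      mul_comm]
  · obtain ⟨w, rfl⟩ := φ.surjective b
    rw [← hφ, ← map_inv, ← map_mul, ← map_mul, ← map_inv] at hb
    have hb' := φ.injective hb
    have hw : w * r * w⁻¹ = r ^ 6 := by
      have h6 : r⁻¹ = r ^ 6 := inv_eq_of_mul_eq_one_right (by
        rw [← pow_succ', show 6 + 1 = 7 from rfl, ← hr, pow_orderOf_eq_one])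
      conv_lhs => rw [← hl]
      rw [← conj_pow, hb', inv_pow, hl, h6]
    have hconj : ∀ t : Fin 3 × Bool,
        (if t.2 then w else 1) * y ^ (t.1 : ℕ) * r * ((if t.2 then w else 1) * y ^ (t.1 : ℕ))⁻¹ =
          r ^ ((if t.2 then 6 else 1) * 2 ^ (t.1 : ℕ)) := by
      rintro ⟨i, b⟩
      rw [show ∀ x : pairGrp, x * y ^ (i : ℕ) * r * (x * y ^ (i : ℕ))⁻¹ =
        x * (y ^ (i : ℕ) * r * (y ^ (i : ℕ))⁻¹) * x⁻¹ from fun x => by group, pow_conj_pow hyr]
      cases b
      · simp
      · simp only [if_true]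
        rw [← conj_pow, hw, ← pow_mul]
    have hle := card_cent_mul_le (r := r)
      (fun t : Fin 3 × Bool => (if t.2 then w else 1) * y ^ (t.1 : ℕ))
      (fun t => by rw [hconj]; exact Subgroup.pow_mem _ (Subgroup.mem_zpowers r) _)
      (fun s t h => pow_inj_of_mod hr (fun t : Fin 3 × Bool => (if t.2 then 6 else 1) * 2 ^ (t.1 : ℕ))
        (by decide) s t (by rwa [hconj, hconj] at h))
    rw [Nat.card_prod, Nat.card_eq_fintype_card (α := Fin 3), Fintype.card_fin,
      Nat.card_eq_fintype_card (α := Bool), Fintype.card_bool] at hle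
    omega

end Cfsg.Agent.H54.AutTwentyTwo
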