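import Cfsg.Agent.S2062
import Cfsg.Agent.S5599
import Cfsg.Agent.Golay.Transport

/-!
The automorphism group of the Mathieu group on 22 points as the setwise stabiliser of the pair
`{none, some 0}` in the group of the length-24 code.
-/

set_option autoImplicit false

namespace Cfsg.Agent.H54.AutTwentyTwo

open Cfsg Cfsg.Agent.Golay
open scoped Pointwise

/-- Permutations of the code's group preserving the pair `{none, some 0}`. -/
noncomputable def pairGrp : Subgroup (Equiv.Perm GolayPt) :=
  M24 ⊓ MulAction.stabilizer (Equiv.Perm GolayPt) ({none, some 0} : Finset GolayPt)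

lemma exists_swap : ∃ g ∈ M24, (g : Equiv.Perm GolayPt) none = some 0 ∧ g (some 0) = none := by
  have ha : Function.Injective (![none, some 0] : Fin 2 → GolayPt) := by decide
  have hb : Function.Injective (![some 0, none] : Fin 2 → GolayPt) := by decide
  obtain ⟨g, hg⟩ := exists_M24_map_points (by norm_num : (2 : ℕ) ≤ 5) ha hb
  exact ⟨g, g.2, hg 0, hg 1⟩

lemma M22_le : Spor.M22 ≤ pairGrp := by
  intro σ hσ
  obtain ⟨h1, h2, h3⟩ := S5599.mem_M22.1 hσ
  refine ⟨h1, smul_eq_of_image (fun p hp => ?_) le_rfl⟩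
  simp only [Finset.mem_insert, Finset.mem_singleton] at hp ⊢
  rcases hp with rfl | rfl
  exacts [.inl h2, .inr h3]

lemma relIndex_eq : Spor.M22.relIndex pairGrp = 2 := by
  obtain ⟨g, hg, h1, h2⟩ := exists_swap
  exact (S5599.result g hg h1 h2).1

theorem card_pairGrp : Nat.card pairGrp = 887040 := by
  rw [← Subgroup.relIndex_bot_left, ← Subgroup.relIndex_mul_relIndex ⊥ Spor.M22 pairGrp bot_le
    M22_le, Subgroup.relIndex_bot_left, card_spor_M22, relIndex_eq]

lemma pair_cases {σ : Equiv.Perm GolayPt} (hσ : σ ∈ pairGrp) :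
    σ ∈ Spor.M22 ∨ (σ none = some 0 ∧ σ (some 0) = none) := by
  have hmem : ∀ p ∈ ({none, some 0} : Finset GolayPt), σ p ∈ ({none, some 0} : Finset GolayPt) := by
    intro p hp
    have := Finset.smul_mem_smul_finset (a := σ) hp
    rwa [MulAction.mem_stabilizer_iff.1 hσ.2] at this
  have b1 := hmem none (by simp)
  have b2 := hmem (some 0) (by simp)
  simp only [Finset.mem_insert, Finset.mem_singleton] at b1 b2
  have hne : σ none ≠ σ (some 0) := σ.injective.ne (by simp)
  rcases b1 with b1 | b1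
  · exact .inl (S5599.mem_M22.2 ⟨hσ.1, b1, b2.resolve_left fun e => hne (b1.trans e.symm)⟩)
  · exact .inr ⟨b1, b2.resolve_right fun e => hne (b1.trans e.symm)⟩

lemma conj_mem {σ : Equiv.Perm GolayPt} (hσ : σ ∈ pairGrp) :
    ∀ x ∈ Spor.M22, σ * x * σ⁻¹ ∈ Spor.M22 := by
  intro x hx
  rcases pair_cases hσ with h | ⟨h1, h2⟩
  · exact mul_mem (mul_mem h hx) (inv_mem h)
  · exact (S5599.result σ hσ.1 h1 h2).2.1 x hx

instance M22_normal : (Spor.M22.subgroupOf pairGrp).Normal :=
  ⟨fun x hx g => conj_mem g.2 x.1 hx⟩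

/-- Conjugation of `M22` by the stabiliser of the pair. -/
noncomputable def conjHom : pairGrp →* MulAut ↥Spor.M22 :=
  ((MulAut.congr (Subgroup.subgroupOfEquivOfLe M22_le)).toMonoidHom).comp
    (MulAut.conjNormal (H := Spor.M22.subgroupOf pairGrp))

lemma conjHom_apply (σ : pairGrp) (x : Spor.M22) :
    ((conjHom σ x : Spor.M22) : Equiv.Perm GolayPt) = σ.1 * x.1 * σ.1⁻¹ := rfl

lemma center_M22 : Subgroup.center ↥Spor.M22 = ⊥ := by
  haveI := isSimpleGroup_spor_M22
  rcases (inferInstance : (Subgroup.center ↥Spor.M22).Normal).eq_bot_or_eq_top with h | h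
  · exact h
  · exfalso
    have hcomm : ∀ a b : ↥Spor.M22, a * b = b * a := fun a b =>
      (Subgroup.mem_center_iff.1 (h ▸ Subgroup.mem_top b)) a
    letI : CommGroup ↥Spor.M22 := { (inferInstance : Group ↥Spor.M22) with mul_comm := hcomm }
    have hp := IsSimpleGroup.prime_card (α := ↥Spor.M22)
    rw [card_spor_M22] at hp
    norm_num at hp

theorem conjHom_injective : Function.Injective conjHom := by
  rw [injective_iff_map_eq_one]
  intro σ hσ
  have hfix : ∀ x ∈ Spor.M22, σ.1 * x * σ.1⁻¹ = x := fun x hx => by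
    rw [← conjHom_apply σ ⟨x, hx⟩, hσ]; rfl
  rcases pair_cases σ.2 with h | ⟨h1, h2⟩
  · have hc : (⟨σ.1, h⟩ : Spor.M22) ∈ Subgroup.center ↥Spor.M22 := by
      refine Subgroup.mem_center_iff.2 fun x => Subtype.ext ?_
      exact (mul_inv_eq_iff_eq_mul.1 (hfix x.1 x.2)).symm
    rw [center_M22, Subgroup.mem_bot] at hc
    exact Subtype.ext (congrArg Subtype.val hc :)
  · refine absurd ⟨1, one_mem _, fun x hx => ?_⟩ (S5599.result σ.1 σ.2.1 h1 h2).2.2
    rw [hfix x hx, one_mul, inv_one, mul_one]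

theorem card_mulAut : Nat.card (MulAut ↥Spor.M22) = 887040 := by
  have hi : Function.Injective (MulAut.conj : ↥Spor.M22 →* MulAut ↥Spor.M22) := by
    rw [injective_iff_map_eq_one]
    intro x hx
    have hc : x ∈ Subgroup.center ↥Spor.M22 := Subgroup.mem_center_iff.2 fun y => by
      have := congrArg (fun φ : MulAut ↥Spor.M22 => φ y) hx
      exact (mul_inv_eq_iff_eq_mul.1 this).symm
    rwa [center_M22, Subgroup.mem_bot] at hc
  have h1 : Nat.card (Inn ↥Spor.M22) = 443520 := by
    rw [← card_spor_M22]; exact (Nat.card_congr (MonoidHom.ofInjective hi).toEquiv).symm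
  have h2 := (Inn ↥Spor.M22).card_mul_index
  have h3 : (Inn ↥Spor.M22).index = 2 := S2062.result
  rw [h1, h3] at h2
  exact h2.symm

/-- The pair stabiliser is the automorphism group of `M22`. -/
noncomputable def autIso : pairGrp ≃* MulAut ↥Spor.M22 :=
  MulEquiv.ofBijective conjHom ((Nat.bijective_iff_injective_and_card conjHom).2
    ⟨conjHom_injective, by rw [card_pairGrp, card_mulAut]⟩)

end Cfsg.Agent.H54.AutTwentyTwo
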